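import Groth.Agent.MorLib.SpreadFP
import Groth.Agent.SpreadUniq.Basic
import Groth.Agent.GrpSchLib.FieldSmooth
import Groth.Agent.ExistEasy.ChowNR.Basic
import Groth.Agent.AlgSpDec.SchDenseFacts
import Mathlib

/-! # Extending morphisms from schematically dense opens pointwise -/

universe u

open CategoryTheory Limits AlgebraicGeometry TopologicalSpace

set_option backward.isDefEq.respectTransparency false
set_option backward.isDefEq.respectTransparency.types false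

noncomputable section

namespace Groth.Agent.NmpDescent

/-- A closure point of a locally closed subset of a noetherian space specialises from it. -/
theorem exists_specializes_mem {X : Type*} [TopologicalSpace X] [QuasiSober X]
    [NoetherianSpace X] {W F : Set X} (hW : IsOpen W) (hF : IsClosed F) {y : X}
    (hy : y ∈ closure (W ∩ F)) : ∃ c ∈ W ∩ F, c ⤳ y := by
  classical
  let C := W ∩ F
  haveI : NoetherianSpace C := Topology.IsInducing.subtypeVal.noetherianSpace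
  have hfin : (irreducibleComponents C).Finite := NoetherianSpace.finite_irreducibleComponents
  have hC : C = ⋃ Z ∈ irreducibleComponents C, Subtype.val '' Z := by
    ext x
    simp only [Set.mem_iUnion, Set.mem_image, exists_prop]
    refine ⟨fun hx => ⟨irreducibleComponent ⟨x, hx⟩, irreducibleComponent_mem_irreducibleComponents _,
      ⟨x, hx⟩, mem_irreducibleComponent, rfl⟩, ?_⟩
    rintro ⟨Z, -, z, -, rfl⟩
    exact z.2
  rw [show W ∩ F = C from rfl, hC, hfin.closure_biUnion] at hy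
  simp only [Set.mem_iUnion] at hy
  obtain ⟨Z, hZ, hyZ⟩ := hy
  have hirr : IsIrreducible (closure (Subtype.val '' Z)) :=
    (hZ.1.image _ continuous_subtype_val.continuousOn).closure
  have hg := hirr.isGenericPoint_genericPoint isClosed_closure
  refine ⟨hirr.genericPoint, ⟨?_, ?_⟩, hg.specializes hyZ⟩
  · obtain ⟨z, hz⟩ := hZ.1.nonempty
    exact (hg.specializes (subset_closure ⟨z, hz, rfl⟩)).mem_open hW z.2.1
  · exact hF.closure_subset_iff.2 (by rintro _ ⟨z, -, rfl⟩; exact z.2.2) hg.mem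

variable {S Y N : Scheme.{u}} (p : Y ⟶ S) (q : N ⟶ S) [IsSeparated q]

/-- Two morphisms into a separated scheme agreeing on a schematically dense open are equal. -/
theorem ext_dense [IsLocallyNoetherian S] (U : S.Opens) (hU : CInt.IsSchematicallyDense U)
    [Flat p] (a b : Y ⟶ N) (hab : a ≫ q = b ≫ q) (ha : a ≫ q = p)
    (h : (p ⁻¹ᵁ U).ι ≫ a = (p ⁻¹ᵁ U).ι ≫ b) : a = b := by
  haveI : IsSchemeTheoreticallyDominant U.ι := ⟨(AlgSpDec.SchDenseFacts.iff_ker_eq_bot U).1 hU⟩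
  haveI : IsSchemeTheoreticallyDominant (p ⁻¹ᵁ U).ι :=
    IsSchemeTheoreticallyDominant.of_isPullback (isPullback_morphismRestrict p U)
  exact ExistEasy.ChowNR.ext_of_isSTDom q hab _ h

/-- Agreement near every point gives equality. -/
theorem hom_ext_local {T : Scheme.{u}} (a b : T ⟶ N)
    (h : ∀ t : T, ∃ W : T.Opens, t ∈ W ∧ W.ι ≫ a = W.ι ≫ b) : a = b := by
  choose W hW hab using h
  exact (T.openCoverOfIsOpenCover W (TopologicalSpace.IsOpenCover.mk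
    (eq_top_iff.2 fun t _ => Opens.mem_iSup.2 ⟨t, hW t⟩))).hom_ext _ _ hab

/-- An extension to the local scheme at a point spreads out. -/
theorem exists_extension_near [IsLocallyNoetherian Y] [LocallyOfFinitePresentation q]
    (O : Y.Opens) (h : O.toScheme ⟶ N) (hh : h ≫ q = O.ι ≫ p)
    (y : Y) (σ : Spec (Y.presheaf.stalk y) ⟶ N) (hσ : σ ≫ q = Y.fromSpecStalk y ≫ p)
    (hσh : ∀ (z : Y) (hzy : z ⤳ y) (hz : z ∈ O),
      Spec.map (Y.presheaf.stalkSpecializes hzy) ≫ σ = O.fromSpecStalkOfMem z hz ≫ h) :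
    ∃ (V : Y.Opens) (hyV : y ∈ V) (s : V.toScheme ⟶ N), s ≫ q = V.ι ≫ p ∧
      σ = V.fromSpecStalkOfMem y hyV ≫ s ∧
      ∀ {T : Scheme.{u}} (a : T ⟶ V.toScheme) (b : T ⟶ O.toScheme),
        a ≫ V.ι = b ≫ O.ι → a ≫ s = b ≫ h := by
  obtain ⟨V₀, hyV₀, s₀, hs₀, hs₀q⟩ := MorLib.SFP.spread_out p q σ hσ
  obtain ⟨_, ⟨(V₁ : Y.Opens), hV₁, rfl⟩, hyV₁, hV₁₀⟩ :=
    Y.isBasis_affineOpens.exists_subset_of_mem_open hyV₀ V₀.isOpen
  haveI := IsLocallyNoetherian.component_noetherian ⟨V₁, hV₁⟩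
  haveI : NoetherianSpace V₁.toScheme := noetherianSpace_of_isAffineOpen V₁ hV₁
  let W₀ : Y.Opens := V₁ ⊓ O
  have hle : W₀ ≤ V₀ := inf_le_left.trans hV₁₀
  let a₀ : W₀.toScheme ⟶ N := Y.homOfLE hle ≫ s₀
  let b₀ : W₀.toScheme ⟶ N := Y.homOfLE (inf_le_right : W₀ ≤ O) ≫ h
  have hab₀ : a₀ ≫ q = b₀ ≫ q := by simp [a₀, b₀, hs₀q, hh]
  let Ω : W₀.toScheme.Opens := ⨆ (W : {W : W₀.toScheme.Opens // W.ι ≫ a₀ = W.ι ≫ b₀}), W.1
  have hΩ : ∀ t : W₀.toScheme, W₀.ι t ⤳ y → t ∈ Ω := by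
    intro t ht
    have hz : W₀.ι t ∈ W₀ := t.2
    have e : W₀.fromSpecStalkOfMem (W₀.ι t) hz ≫ a₀ = W₀.fromSpecStalkOfMem (W₀.ι t) hz ≫ b₀ := by
      have ea : W₀.fromSpecStalkOfMem (W₀.ι t) hz ≫ Y.homOfLE hle =
          Spec.map (Y.presheaf.stalkSpecializes ht) ≫ V₀.fromSpecStalkOfMem y hyV₀ := by
        rw [← cancel_mono V₀.ι]
        simp [Scheme.SpecMap_stalkSpecializes_fromSpecStalk]
      have eb : W₀.fromSpecStalkOfMem (W₀.ι t) hz ≫ Y.homOfLE (inf_le_right : W₀ ≤ O) =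
          O.fromSpecStalkOfMem (W₀.ι t) hz.2 := by
        rw [← cancel_mono O.ι]
        simp
      simp only [a₀, b₀, reassoc_of% ea, reassoc_of% eb, ← hs₀]
      exact hσh _ ht hz.2
    have e' : W₀.toScheme.fromSpecStalk t ≫ a₀ = W₀.toScheme.fromSpecStalk t ≫ b₀ := by
      have hfs : W₀.toScheme.fromSpecStalk t =
          Spec.map (W₀.ι.stalkMap t) ≫ W₀.fromSpecStalkOfMem (W₀.ι t) hz := by
        rw [← cancel_mono W₀.ι, Category.assoc, Scheme.Opens.fromSpecStalkOfMem_ι,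
          Scheme.SpecMap_stalkMap_fromSpecStalk]
      rw [hfs, Category.assoc, Category.assoc, e]
    obtain ⟨W, htW, hW⟩ := SpreadUniq.spread_out_unique q a₀ b₀ hab₀ e'
    exact Opens.mem_iSup.2 ⟨⟨W, hW⟩, htW⟩
  -- the bad set inside the noetherian space `V₁`
  let Wset : Set V₁.toScheme := V₁.ι ⁻¹' (O : Set Y)
  let Ω' : Y.Opens := W₀.ι ''ᵁ Ω
  let F : Set V₁.toScheme := (V₁.ι ⁻¹' (Ω' : Set Y))ᶜ
  have hyC : (⟨y, hyV₁⟩ : V₁.toScheme) ∉ closure (Wset ∩ F) := by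
    intro hmem
    obtain ⟨c, ⟨hcW, hcF⟩, hc⟩ := exists_specializes_mem (X := V₁.toScheme)
      (O.isOpen.preimage V₁.ι.continuous) ((Ω'.isOpen.preimage V₁.ι.continuous).isClosed_compl) hmem
    have hc' : V₁.ι c ⤳ y := hc.map V₁.ι.continuous
    let t : W₀.toScheme := ⟨V₁.ι c, c.2, hcW⟩
    exact hcF ⟨t, hΩ t hc', rfl⟩
  let V : Y.Opens := V₁.ι ''ᵁ ⟨(closure (Wset ∩ F))ᶜ, isClosed_closure.isOpen_compl⟩
  have hVV₁ : V ≤ V₁ := by
    rintro _ ⟨c, -, rfl⟩; exact c.2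
  refine ⟨V, ⟨_, hyC, rfl⟩, Y.homOfLE (hVV₁.trans hV₁₀) ≫ s₀, ?_, ?_, ?_⟩
  · simp [hs₀q]
  · have e1 : V.fromSpecStalkOfMem y ⟨_, hyC, rfl⟩ ≫ Y.homOfLE (hVV₁.trans hV₁₀) =
        V₀.fromSpecStalkOfMem y hyV₀ := by
      rw [← cancel_mono V₀.ι]; simp
    rw [hs₀, reassoc_of% e1]
  intro T a b hab
  have hrange : Set.range (a ≫ V.ι) ⊆ Set.range W₀.ι := by
    rw [Scheme.Opens.range_ι]
    rintro _ ⟨t, rfl⟩
    refine ⟨hVV₁ (a t).2, ?_⟩
    show (a ≫ V.ι) t ∈ O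
    rw [hab]
    exact (b t).2
  let l : T ⟶ W₀.toScheme := IsOpenImmersion.lift W₀.ι (a ≫ V.ι) hrange
  have hl : l ≫ W₀.ι = a ≫ V.ι := IsOpenImmersion.lift_fac _ _ _
  have hla : l ≫ a₀ = a ≫ Y.homOfLE (hVV₁.trans hV₁₀) ≫ s₀ := by
    have : l ≫ Y.homOfLE hle = a ≫ Y.homOfLE (hVV₁.trans hV₁₀) := by
      rw [← cancel_mono V₀.ι]; simp [hl]
    simp only [a₀, reassoc_of% this]
  have hlb : l ≫ b₀ = b ≫ h := by
    have : l ≫ Y.homOfLE (inf_le_right : W₀ ≤ O) = b := by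
      rw [← cancel_mono O.ι]; simp [hl, hab]
    simp only [b₀, reassoc_of% this]
  rw [← hla, ← hlb]
  refine hom_ext_local _ _ fun t => ?_
  have hmemΩ : l t ∈ Ω := by
    obtain ⟨c, hc, hca⟩ : V.ι (a t) ∈ V := (a t).2
    have hcW : c ∈ Wset := by
      show V₁.ι c ∈ O
      rw [show V₁.ι c = V.ι (a t) from hca]
      show (a ≫ V.ι) t ∈ O
      rw [hab]; exact (b t).2
    have hnF : c ∈ V₁.ι ⁻¹' (Ω' : Set Y) := by
      by_contra hF
      exact hc (subset_closure ⟨hcW, hF⟩)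
    obtain ⟨t', ht', htt'⟩ := hnF
    have : t' = l t := by
      apply W₀.ι.isOpenEmbedding.injective
      refine (show W₀.ι t' = V₁.ι c from htt').trans ((show V₁.ι c = V.ι (a t) from hca).trans ?_)
      rw [← Scheme.Hom.comp_apply l, hl]
      rfl
    exact this ▸ ht'
  obtain ⟨⟨W, hW⟩, htW⟩ := Opens.mem_iSup.1 hmemΩ
  refine ⟨l ⁻¹ᵁ W, htW, ?_⟩
  have hl' : (l ⁻¹ᵁ W).ι ≫ l = (l ∣_ W) ≫ W.ι := (morphismRestrict_ι l W).symm
  rw [reassoc_of% hl', reassoc_of% hl', hW]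

/-- Pointwise extensions glue. -/
theorem exists_extension [IsLocallyNoetherian S] [IsLocallyNoetherian Y]
    [LocallyOfFinitePresentation q] [Flat p]
    (U : S.Opens) (hU : CInt.IsSchematicallyDense U)
    (h : (p ⁻¹ᵁ U).toScheme ⟶ N) (hh : h ≫ q = (p ⁻¹ᵁ U).ι ≫ p)
    (hσ : ∀ y : Y, ∃ σ : Spec (Y.presheaf.stalk y) ⟶ N, σ ≫ q = Y.fromSpecStalk y ≫ p ∧
      ∀ (z : Y) (hzy : z ⤳ y) (hz : z ∈ p ⁻¹ᵁ U),
        Spec.map (Y.presheaf.stalkSpecializes hzy) ≫ σ = (p ⁻¹ᵁ U).fromSpecStalkOfMem z hz ≫ h) :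
    ∃ d : Y ⟶ N, d ≫ q = p ∧ (p ⁻¹ᵁ U).ι ≫ d = h := by
  choose σ hσq hσh using hσ
  choose V hyV s hsq _ hsh using fun y => exists_extension_near p q _ h hh y (σ y) (hσq y) (hσh y)
  let 𝒰 := Y.openCoverOfIsOpenCover V (TopologicalSpace.IsOpenCover.mk
    (eq_top_iff.2 fun t _ => Opens.mem_iSup.2 ⟨t, hyV t⟩))
  have compat : ∀ i j : Y,
      pullback.fst (V i).ι (V j).ι ≫ s i = pullback.snd (V i).ι (V j).ι ≫ s j := by
    intro i j
    let r := pullback.fst (V i).ι (V j).ι ≫ (V i).ι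
    have hr : r = pullback.snd (V i).ι (V j).ι ≫ (V j).ι := pullback.condition
    refine ext_dense (r ≫ p) q U hU _ _ ?_ ?_ ?_
    · simp only [Category.assoc, hsq, r]
      rw [← Category.assoc, pullback.condition, Category.assoc]
    · simp only [Category.assoc, hsq, r]
    · let O₂ := (r ≫ p) ⁻¹ᵁ U
      have hrg : Set.range (O₂.ι ≫ r) ⊆ Set.range (p ⁻¹ᵁ U).ι := by
        rw [Scheme.Opens.range_ι]
        rintro _ ⟨t, rfl⟩
        exact t.2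
      let b := IsOpenImmersion.lift (p ⁻¹ᵁ U).ι (O₂.ι ≫ r) hrg
      have hb : b ≫ (p ⁻¹ᵁ U).ι = O₂.ι ≫ r := IsOpenImmersion.lift_fac _ _ _
      rw [← Category.assoc, ← Category.assoc,
        hsh i (O₂.ι ≫ pullback.fst _ _) b (by rw [Category.assoc, hb]),
        hsh j (O₂.ι ≫ pullback.snd _ _) b (by rw [Category.assoc, hb, hr])]
  let d : Y ⟶ N := 𝒰.glueMorphisms s compat
  have hd : ∀ i, (V i).ι ≫ d = s i := fun i => 𝒰.ι_glueMorphisms s compat i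
  refine ⟨d, 𝒰.hom_ext _ _ fun i => ?_, ?_⟩
  · show (V i).ι ≫ d ≫ q = (V i).ι ≫ p
    rw [reassoc_of% (hd i), hsq]
  · refine hom_ext_local _ _ fun t => ⟨(p ⁻¹ᵁ U).ι ⁻¹ᵁ V ((p ⁻¹ᵁ U).ι t), hyV _, ?_⟩
    let W := (p ⁻¹ᵁ U).ι ⁻¹ᵁ V ((p ⁻¹ᵁ U).ι t)
    have e : W.ι ≫ (p ⁻¹ᵁ U).ι = ((p ⁻¹ᵁ U).ι ∣_ V ((p ⁻¹ᵁ U).ι t)) ≫ (V _).ι :=
      (morphismRestrict_ι _ _).symm
    show W.ι ≫ (p ⁻¹ᵁ U).ι ≫ d = W.ι ≫ h
    rw [reassoc_of% e, hd]
    exact hsh _ _ _ e.symm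

end Groth.Agent.NmpDescent
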