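import Groth.Agent.NmpDescent.Spread
import Groth.Agent.NmpTorsor.Basic
import Mathlib

/-! # Descent of the extension property along flat surjections -/

universe u

open CategoryTheory Limits AlgebraicGeometry TopologicalSpace

set_option backward.isDefEq.respectTransparency false
set_option backward.isDefEq.respectTransparency.types false

noncomputable section

namespace Groth.Agent.NmpDescent

theorem surjective_restrict {X Y : Scheme.{u}} (f : X ⟶ Y) [Surjective f] (V : Y.Opens) :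
    Surjective (f ∣_ V) :=
  IsZariskiLocalAtTarget.restrict ‹_› V

/-- The local extension at a point, by faithfully flat descent from `Spec` of a point upstairs. -/
theorem exists_local_extension {S S' Y N : Scheme.{u}} [IsLocallyNoetherian S] (g : S' ⟶ S)
    [Flat g] [Surjective g] (U : S.Opens) (hU : CInt.IsSchematicallyDense U)
    (p : Y ⟶ S) [Flat p] (q : N ⟶ S) [IsSeparated q] (h : (p ⁻¹ᵁ U).toScheme ⟶ N)
    (f' : pullback p g ⟶ N) (hf' : f' ≫ q = pullback.fst p g ≫ p)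
    (hfh : ∀ {T : Scheme.{u}} (a : T ⟶ pullback p g) (b : T ⟶ (p ⁻¹ᵁ U).toScheme),
      a ≫ pullback.fst p g = b ≫ (p ⁻¹ᵁ U).ι → a ≫ f' = b ≫ h) (y : Y) :
    ∃ σ : Spec (Y.presheaf.stalk y) ⟶ N, σ ≫ q = Y.fromSpecStalk y ≫ p ∧
      ∀ (z : Y) (hzy : z ⤳ y) (hz : z ∈ p ⁻¹ᵁ U),
        Spec.map (Y.presheaf.stalkSpecializes hzy) ≫ σ = (p ⁻¹ᵁ U).fromSpecStalkOfMem z hz ≫ h := by
  obtain ⟨x, rfl⟩ := (pullback.fst p g).surjective y
  let π := Spec.map ((pullback.fst p g).stalkMap x)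
  let js := (pullback p g).fromSpecStalk x
  let jy := Y.fromSpecStalk (pullback.fst p g x)
  have hπj : π ≫ jy = js ≫ pullback.fst p g := Scheme.SpecMap_stalkMap_fromSpecStalk _
  obtain ⟨hπflat, hπsurj⟩ : Flat π ∧ Surjective π := by
    refine (flat_and_surjective_SpecMap_iff _).2 ?_
    have hfl : ((pullback.fst p g).stalkMap x).hom.Flat := Flat.stalkMap _ x
    algebraize [((pullback.fst p g).stalkMap x).hom]
    have : IsLocalHom (algebraMap (Y.presheaf.stalk (pullback.fst p g x))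
        ((pullback p g).presheaf.stalk x)) :=
      inferInstanceAs <| IsLocalHom ((pullback.fst p g).stalkMap x).hom
    exact RingHom.faithfullyFlat_algebraMap_iff.2 Module.FaithfullyFlat.of_flat_of_isLocalHom
  haveI := hπflat
  haveI := hπsurj
  haveI : Flat jy := GrpSchLib.flat_fromSpecStalk _
  have hcompat : ∀ {T : Scheme.{u}} (g₁ g₂ : T ⟶ Spec ((pullback p g).presheaf.stalk x)),
      g₁ ≫ π = g₂ ≫ π → g₁ ≫ js ≫ f' = g₂ ≫ js ≫ f' := by
    intro T g₁ g₂ hg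
    have key : pullback.fst π π ≫ js ≫ f' = pullback.snd π π ≫ js ≫ f' := by
      let r := pullback.fst π π ≫ π ≫ jy ≫ p
      have hr₁ : pullback.fst π π ≫ js ≫ pullback.fst p g ≫ p = r := by
        simp only [r, reassoc_of% hπj]
      have hr₂ : pullback.snd π π ≫ js ≫ pullback.fst p g ≫ p = r := by
        simp only [r, ← reassoc_of% hπj, pullback.condition_assoc]
      haveI : Flat r := inferInstanceAs (Flat (pullback.fst π π ≫ π ≫ jy ≫ p))
      refine ext_dense r q U hU _ _ ?_ ?_ ?_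
      · simp only [Category.assoc, hf', hr₁, hr₂]
      · simp only [Category.assoc, hf', hr₁]
      · have hsame : pullback.fst π π ≫ js ≫ pullback.fst p g =
            pullback.snd π π ≫ js ≫ pullback.fst p g := by
          rw [← hπj, pullback.condition_assoc]
        have hrg : Set.range ((r ⁻¹ᵁ U).ι ≫ pullback.fst π π ≫ js ≫ pullback.fst p g) ⊆
            Set.range (p ⁻¹ᵁ U).ι := by
          rw [Scheme.Opens.range_ι]
          rintro _ ⟨t, rfl⟩
          show (((r ⁻¹ᵁ U).ι ≫ pullback.fst π π ≫ js ≫ pullback.fst p g) ≫ p) t ∈ U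
          simp only [Category.assoc, hr₁]
          exact t.2
        let b := IsOpenImmersion.lift (p ⁻¹ᵁ U).ι _ hrg
        have hb : b ≫ (p ⁻¹ᵁ U).ι = _ := IsOpenImmersion.lift_fac _ _ hrg
        have h1 := hfh ((r ⁻¹ᵁ U).ι ≫ pullback.fst π π ≫ js) b (by
          simp only [Category.assoc]; exact hb.symm)
        have h2 := hfh ((r ⁻¹ᵁ U).ι ≫ pullback.snd π π ≫ js) b (by
          simp only [Category.assoc, ← hsame]; exact hb.symm)
        simp only [Category.assoc] at h1 h2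
        rw [h1, h2]
    calc g₁ ≫ js ≫ f' = pullback.lift g₁ g₂ hg ≫ pullback.fst π π ≫ js ≫ f' :=
          (pullback.lift_fst_assoc _ _ hg _).symm
      _ = pullback.lift g₁ g₂ hg ≫ pullback.snd π π ≫ js ≫ f' := by rw [key]
      _ = g₂ ≫ js ≫ f' := pullback.lift_snd_assoc _ _ hg _
  let σ := EffectiveEpi.desc π (js ≫ f') hcompat
  have hσ : π ≫ σ = js ≫ f' := EffectiveEpi.fac _ _ _
  refine ⟨σ, ?_, fun z hzy hz => ?_⟩
  · rw [← cancel_epi π, reassoc_of% hσ, hf', reassoc_of% hπj]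
  let W := jy ⁻¹ᵁ (p ⁻¹ᵁ U)
  let bW : W.toScheme ⟶ (p ⁻¹ᵁ U).toScheme := jy ∣_ (p ⁻¹ᵁ U)
  have hW : W.ι ≫ σ = bW ≫ h := by
    haveI := surjective_restrict π W
    rw [← cancel_epi (π ∣_ W), morphismRestrict_ι_assoc, hσ, ← Category.assoc (π ∣_ W)]
    have := hfh ((π ⁻¹ᵁ W).ι ≫ js) (π ∣_ W ≫ bW) (by
      simp only [bW, Category.assoc, morphismRestrict_ι, morphismRestrict_ι_assoc, hπj, W])
    rw [← this, Category.assoc]
  have hr : Set.range (Spec.map (Y.presheaf.stalkSpecializes hzy)) ⊆ Set.range W.ι := by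
    rw [Scheme.Opens.range_ι]
    rintro _ ⟨t, rfl⟩
    show jy (Spec.map (Y.presheaf.stalkSpecializes hzy) t) ∈ p ⁻¹ᵁ U
    rw [← Scheme.Hom.comp_apply, Scheme.SpecMap_stalkSpecializes_fromSpecStalk,
      ← Scheme.Opens.fromSpecStalkOfMem_ι (p ⁻¹ᵁ U) z hz, Scheme.Hom.comp_apply]
    exact ((p ⁻¹ᵁ U).fromSpecStalkOfMem z hz t).2
  rw [← IsOpenImmersion.lift_fac W.ι _ hr, Category.assoc, hW, ← Category.assoc]
  congr 1
  rw [← cancel_mono (p ⁻¹ᵁ U).ι, Category.assoc, Scheme.Opens.fromSpecStalkOfMem_ι]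
  simp only [bW, morphismRestrict_ι]
  rw [IsOpenImmersion.lift_fac_assoc]
  exact Scheme.SpecMap_stalkSpecializes_fromSpecStalk hzy

/-- The extension property descends along flat surjections. -/
theorem nmp_descent {S S' : Scheme.{u}} [IsLocallyNoetherian S] (g : S' ⟶ S) [Flat g]
    [Surjective g] (U : S.Opens) (hU : CInt.IsSchematicallyDense U)
    (N : Over S) [IsSeparated N.hom] [LocallyOfFinitePresentation N.hom]
    (hN' : NmpTorsor.Ext (g ⁻¹ᵁ U) ((Over.pullback g).obj N))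
    (Y : Over S) [Smooth Y.hom] :
    Function.Bijective (fun f : Y ⟶ N => NmpTorsor.j U Y ≫ f) := by
  haveI : IsLocallyNoetherian Y.left := LocallyOfFiniteType.isLocallyNoetherian Y.hom
  have hto : ∃ c : (Y.hom ⁻¹ᵁ U).toScheme ⟶ (NmpTorsor.resObj U Y).left,
      c ≫ (NmpTorsor.j U Y).left = (Y.hom ⁻¹ᵁ U).ι :=
    ⟨pullback.lift (Y.hom ⁻¹ᵁ U).ι (Y.hom ∣_ U) (morphismRestrict_ι _ _).symm, pullback.lift_fst _ _ _⟩
  obtain ⟨c, hc⟩ := hto
  constructor
  · intro f₁ f₂ hf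
    ext1
    refine ext_dense Y.hom N.hom U hU _ _ ((Over.w f₁).trans (Over.w f₂).symm) (Over.w f₁) ?_
    rw [← hc, Category.assoc, Category.assoc]
    exact congrArg (fun k => c ≫ Over.Hom.left k) hf
  intro hk
  let h : (Y.hom ⁻¹ᵁ U).toScheme ⟶ N.left := c ≫ hk.left
  have hh : h ≫ N.hom = (Y.hom ⁻¹ᵁ U).ι ≫ Y.hom := by
    simp only [h, Category.assoc, Over.w hk]
    rw [← hc, Category.assoc, Over.w]
  let Z : Over S' := (Over.pullback g).obj Y
  haveI : Smooth Z.hom := inferInstanceAs (Smooth (pullback.snd Y.hom g))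
  let e₀ : (NmpTorsor.resObj (g ⁻¹ᵁ U) Z).left ⟶ Y.left :=
    pullback.fst Z.hom (g ⁻¹ᵁ U).ι ≫ pullback.fst Y.hom g
  have he₀w : e₀ ≫ Y.hom = (NmpTorsor.resObj (g ⁻¹ᵁ U) Z).hom ≫ g := by
    show (pullback.fst Z.hom (g ⁻¹ᵁ U).ι ≫ pullback.fst Y.hom g) ≫ Y.hom =
      (pullback.fst Z.hom (g ⁻¹ᵁ U).ι ≫ pullback.snd Y.hom g) ≫ g
    rw [Category.assoc, Category.assoc, pullback.condition]
  have he₀r : Set.range e₀ ⊆ Set.range (Y.hom ⁻¹ᵁ U).ι := by
    rw [Scheme.Opens.range_ι]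
    rintro _ ⟨t, rfl⟩
    show Y.hom (e₀ t) ∈ U
    rw [← Scheme.Hom.comp_apply, he₀w, Scheme.Hom.comp_apply]
    exact NmpTorsor.range_subset (g ⁻¹ᵁ U) Z t
  let b₀ := IsOpenImmersion.lift (Y.hom ⁻¹ᵁ U).ι e₀ he₀r
  have hb₀ : b₀ ≫ (Y.hom ⁻¹ᵁ U).ι = e₀ := IsOpenImmersion.lift_fac _ _ _
  have hkw : (b₀ ≫ h) ≫ N.hom = (NmpTorsor.resObj (g ⁻¹ᵁ U) Z).hom ≫ g := by
    rw [Category.assoc, hh, reassoc_of% hb₀, he₀w]
  let k : NmpTorsor.resObj (g ⁻¹ᵁ U) Z ⟶ (Over.pullback g).obj N :=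
    Over.homMk (pullback.lift (b₀ ≫ h) _ hkw) (pullback.lift_snd _ _ _)
  obtain ⟨f₀, hf₀⟩ := (hN' Z inferInstance).2 k
  have hf₀l : pullback.fst Z.hom (g ⁻¹ᵁ U).ι ≫ f₀.left ≫ pullback.fst N.hom g = b₀ ≫ h := by
    have := congrArg (fun m => Over.Hom.left m ≫ pullback.fst N.hom g) hf₀
    simp only [Over.comp_left, Category.assoc] at this
    exact this.trans (pullback.lift_fst _ _ _)
  let f' : pullback Y.hom g ⟶ N.left := f₀.left ≫ pullback.fst N.hom g
  have hf' : f' ≫ N.hom = pullback.fst Y.hom g ≫ Y.hom := by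
    simp only [f', Category.assoc, pullback.condition]
    exact congrArg (· ≫ g) (Over.w f₀)
  have hfh : ∀ {T : Scheme.{u}} (a : T ⟶ pullback Y.hom g) (b : T ⟶ (Y.hom ⁻¹ᵁ U).toScheme),
      a ≫ pullback.fst Y.hom g = b ≫ (Y.hom ⁻¹ᵁ U).ι → a ≫ f' = b ≫ h := by
    intro T a b hab
    have hrg : Set.range (a ≫ pullback.snd Y.hom g) ⊆ Set.range (g ⁻¹ᵁ U).ι := by
      rw [Scheme.Opens.range_ι]
      rintro _ ⟨t, rfl⟩
      show ((a ≫ pullback.snd Y.hom g) ≫ g) t ∈ U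
      rw [Category.assoc, ← pullback.condition, ← Category.assoc, hab]
      exact (b t).2
    let a' : T ⟶ (NmpTorsor.resObj (g ⁻¹ᵁ U) Z).left :=
      pullback.lift a (IsOpenImmersion.lift (g ⁻¹ᵁ U).ι (a ≫ pullback.snd Y.hom g) hrg)
        (IsOpenImmersion.lift_fac _ _ _).symm
    have ha' : a' ≫ pullback.fst Z.hom (g ⁻¹ᵁ U).ι = a := pullback.lift_fst _ _ _
    have hab₀ : a' ≫ b₀ = b := by
      rw [← cancel_mono (Y.hom ⁻¹ᵁ U).ι, Category.assoc, hb₀, ← hab]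
      exact (Category.assoc _ _ _).symm.trans (congrArg (· ≫ pullback.fst Y.hom g) ha')
    rw [← hab₀, Category.assoc, ← hf₀l]
    exact (congrArg (· ≫ f') ha'.symm).trans (Category.assoc _ _ _)
  obtain ⟨d, hd, hdh⟩ := exists_extension Y.hom N.hom U hU h hh
    (exists_local_extension g U hU Y.hom N.hom h f' hf' hfh)
  refine ⟨Over.homMk d hd, ?_⟩
  ext1
  show pullback.fst Y.hom U.ι ≫ d = hk.left
  obtain ⟨c', hc'⟩ : ∃ c' : (NmpTorsor.resObj U Y).left ⟶ (Y.hom ⁻¹ᵁ U).toScheme,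
      c' ≫ (Y.hom ⁻¹ᵁ U).ι = (NmpTorsor.j U Y).left := by
    refine ⟨IsOpenImmersion.lift _ (NmpTorsor.j U Y).left ?_, IsOpenImmersion.lift_fac _ _ _⟩
    rw [Scheme.Opens.range_ι]
    rintro _ ⟨t, rfl⟩
    exact NmpTorsor.range_subset U Y t
  have hcc : c' ≫ c = 𝟙 _ := by
    haveI : Mono (NmpTorsor.j U Y).left := inferInstanceAs (Mono (pullback.fst Y.hom U.ι))
    rw [← cancel_mono (NmpTorsor.j U Y).left, Category.assoc, hc, hc', Category.id_comp]
  calc pullback.fst Y.hom U.ι ≫ d = c' ≫ (Y.hom ⁻¹ᵁ U).ι ≫ d := by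
        rw [← Category.assoc, hc']; rfl
    _ = c' ≫ c ≫ hk.left := by rw [hdh]
    _ = hk.left := by rw [← Category.assoc, hcc, Category.id_comp]

end Groth.Agent.NmpDescent
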